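import Cfsg.Agent.Lib.Comp.M24x.Base

set_option maxRecDepth 100000
set_option Elab.async false

namespace Cfsg.Lib.Comp.M24x

universe u

noncomputable def T3_R : List (List ℕ × ℕ) := [([3],1),
 ([4],1),
 ([1],2),
 ([3,4],1),
 ([1,3],2),
 ([1,4],2),
 ([1,4,2,3],1),
 ([5],1),
 ([1,5],2),
 ([3,5],2),
 ([1,4,3,5],1),
 ([4,5],4),
 ([6],1),
 ([3,6],1),
 ([4,6],1),
 ([5,6],2),
 ([1,3,4,1,6,2,6],0),
 ([1,2],0)]

noncomputable def T3_n_1 : Net :=
 (Net.cons 12 (nat_lit 0x1c0)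
 (Net.cons 6 (nat_lit 0x18020)
 (Net.cons 3 (nat_lit 0x80004)
 (Net.cons 1 (nat_lit 0x201040)
 (Net.cons 1 (nat_lit 0x490)
 (Net.cons 1 (nat_lit 0x8)
 (Net.cons 3 (nat_lit 0x4004)
 (Net.cons 6 (nat_lit 0x1d000)
 (Net.cons 12 (nat_lit 0x1c0)
 Net.nil)))))))))

noncomputable def T3_n_3 : Net :=
 (Net.cons 12 (nat_lit 0xc00)
 (Net.cons 6 (nat_lit 0x2403c)
 (Net.cons 3 (nat_lit 0x6004)
 (Net.cons 1 (nat_lit 0x9008)
 (Net.cons 1 (nat_lit 0x2010)
 (Net.cons 1 (nat_lit 0x1008)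
 (Net.cons 3 (nat_lit 0x1061c4)
 (Net.cons 6 (nat_lit 0x3403c)
 (Net.cons 12 (nat_lit 0xc00)
 Net.nil)))))))))

noncomputable def T3_n_4 : Net :=
 (Net.cons 12 (nat_lit 0xc00)
 (Net.cons 6 (nat_lit 0x1c004)
 (Net.cons 3 (nat_lit 0x4082)
 (Net.cons 1 (nat_lit 0x201248)
 (Net.cons 1 (nat_lit 0x2092)
 (Net.cons 1 (nat_lit 0x1048)
 (Net.cons 3 (nat_lit 0x106082)
 (Net.cons 6 (nat_lit 0x1c004)
 (Net.cons 12 (nat_lit 0xc00)
 Net.nil)))))))))

noncomputable def T3_n_5 : Net :=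
 (Net.cons 12 (nat_lit 0x60)
 (Net.cons 6 (nat_lit 0xe020)
 (Net.cons 3 (nat_lit 0x84080)
 (Net.cons 1 (nat_lit 0x241048)
 (Net.cons 1 (nat_lit 0x90482)
 (Net.cons 1 (nat_lit 0x40040)
 (Net.cons 3 (nat_lit 0x84080)
 (Net.cons 6 (nat_lit 0xe020)
 (Net.cons 12 (nat_lit 0x60)
 Net.nil)))))))))

noncomputable def T3_n_6 : Net :=
 (Net.cons 12 (nat_lit 0xc00)
 (Net.cons 6 (nat_lit 0x4010)
 (Net.cons 3 (nat_lit 0x6000)
 (Net.cons 1 (nat_lit 0x49201)
 (Net.cons 1 (nat_lit 0x2080)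
 (Net.cons 1 (nat_lit 0x1000)
 (Net.cons 3 (nat_lit 0x106000)
 (Net.cons 6 (nat_lit 0x14010)
 (Net.cons 12 (nat_lit 0xc00)
 Net.nil)))))))))

noncomputable def T3_n : List Net := [Net.nil,
 T3_n_1,
 Net.rev T3_n_1,
 T3_n_3,
 T3_n_4,
 T3_n_5,
 T3_n_6]

theorem T3_n_ok : NetsOK 24 T3_n := netsOK_of (by decide +kernel)

theorem T3_n_rel : Rels (gp T3_n) T3_R := rels_of_relsB (k := 5) T3_n_ok (by norm_num) (by decide +kernel)

noncomputable def T3_b0h : ℕ := (nat_lit 0x200000800000e0000000008000022000000000e000020000000001f000023000300002300002500040000110000250005000023000023000400000e000023000100000e000022000400001f0000200002000008000020000100000500001f000100001100000e000500000d00000f000600000d00000f0006000018000010000400000d00001800030000100000180002000005000018)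

noncomputable def T3_b0c : List ℕ := [(nat_lit 0x29000047009f0200002b000041000023009a0300002700003d00002f00060300003300003900003700001900000a00000600000800001d004a0800003700000600002d000e0300000000002f00000a00000800000a00000800000a00000800000a00002d005c0900000000000000002300000800000200000800001d00220500000000000000000a00000200001500000200000a003a0500000600000900000300000a00000600000800000200570700000400000f00000300000800000600000200970600000200000800000500000300000c000001008e06000003000008000002000008000002002205000003000006000002000006000002001a05000000000013)]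

theorem T3_fin : finB 24 T3_n [1,2,3,4,5,6] 21 (runH 24 T3_n (tbk 5 4 prs5 T3_n 32) iv T3_R [] ([1,2,3,4,5].map fun x => [x]) 0 [(fun t => look T3_b0h 64 t, T3_b0c)]
  [1,5,9,13,17,0,4,12,28,48,52,56,60,64,68,8,16,32,36,40,52,68,0,4,12,24,28,44,56,60,20,40,64,68,36,52,60,2,28,32,48,64,68,4,8,12,16,24,32,40,56,64,68,8,16,20,24,28,64]
  (defsH 24 T3_n (ones 240) [6,5,1,2,3,4,5,6,1,2] (Nat.shiftLeft 1 0) 0)) = true := by decide +kernel

theorem T3_idx : Idx.{u} iv (T3_R ++ []) ([1,2,3,4,5].map fun x => [x]) [1,2,3,4,5,6] 21 :=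
  Reach.idx T3_n_ok (reach_runH T3_n_ok (tbk_eq tr5 (by norm_num) (by norm_num) (by norm_num) T3_n_ok) T3_n_rel (reach_defsH T3_n_ok _ _ _ _ _ _) _ _) T3_fin (by norm_num)

end Cfsg.Lib.Comp.M24x
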