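import Cfsg.Agent.Lib.Comp.M24x.Base

set_option maxRecDepth 100000
set_option Elab.async false

namespace Cfsg.Lib.Comp.M24x

universe u

noncomputable def T4_R : List (List ℕ × ℕ) := [([3],1),
 ([4],1),
 ([1],2),
 ([3,4],1),
 ([1,3],2),
 ([1,4],2),
 ([1,4,2,3],1),
 ([5],1),
 ([1,5],2),
 ([3,5],2),
 ([1,4,3,5],1),
 ([4,5],4),
 ([1,2],0)]

noncomputable def T4_n_1 : Net :=
 (Net.cons 10 (nat_lit 0x1a4)
 (Net.cons 5 (nat_lit 0x5004)
 (Net.cons 1 (nat_lit 0x404)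
 (Net.cons 1 (nat_lit 0x4204a)
 (Net.cons 1 (nat_lit 0x20080)
 (Net.cons 1 (nat_lit 0x10000)
 (Net.cons 5 (nat_lit 0x2418)
 (Net.cons 10 (nat_lit 0x2e8)
 Net.nil))))))))

noncomputable def T4_n_3 : Net :=
 (Net.cons 10 (nat_lit 0x380)
 (Net.cons 5 (nat_lit 0x180c)
 (Net.cons 1 (nat_lit 0x400)
 (Net.cons 1 (nat_lit 0x5084a)
 (Net.cons 1 (nat_lit 0x294a4)
 (Net.cons 1 (nat_lit 0x1284a)
 (Net.cons 1 (nat_lit 0x8000)
 (Net.cons 5 (nat_lit 0x640c)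
 (Net.cons 10 (nat_lit 0x380)
 Net.nil)))))))))

noncomputable def T4_n_4 : Net :=
 (Net.cons 10 (nat_lit 0x222)
 (Net.cons 5 (nat_lit 0x6008)
 (Net.cons 1 (nat_lit 0x94a4)
 (Net.cons 1 (nat_lit 0x4200a)
 (Net.cons 1 (nat_lit 0x1004)
 (Net.cons 5 (nat_lit 0x6c08)
 (Net.cons 10 (nat_lit 0x222)
 Net.nil)))))))

noncomputable def T4_n_5 : Net :=
 (Net.cons 10 (nat_lit 0x20)
 (Net.cons 5 (nat_lit 0x3800)
 (Net.cons 1 (nat_lit 0x1405)
 (Net.cons 1 (nat_lit 0x10800)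
 (Net.cons 1 (nat_lit 0x29400)
 (Net.cons 1 (nat_lit 0x10000)
 (Net.cons 5 (nat_lit 0x7800)
 (Net.cons 10 (nat_lit 0xe0)
 Net.nil))))))))

noncomputable def T4_n : List Net := [Net.nil,
 T4_n_1,
 Net.rev T4_n_1,
 T4_n_3,
 T4_n_4,
 T4_n_5]

theorem T4_n_ok : NetsOK 20 T4_n := netsOK_of (by decide +kernel)

theorem T4_n_rel : Rels (gp T4_n) T4_R := rels_of_relsB (k := 5) T4_n_ok (by norm_num) (by decide +kernel)

noncomputable def T4_b0h : ℕ := (nat_lit 0x500001200000a00040000090000140002000007000014)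

noncomputable def T4_b0c : List ℕ := [(nat_lit 0x600000500000300000a000006000008000002005707000003000008000002000008000002002205000000000003)]

theorem T4_fin : finB 20 T4_n [1,2,3,4,5] 20 (runH 20 T4_n (tbk 5 4 prs5 T4_n 32) iv T4_R [] ([1,2,3,4].map fun x => [x]) 0 [(fun t => look T4_b0h 64 t, T4_b0c)]
  [1,5,9,13,0,4,12,28,36,48,8,16,32,36,40,48,0,4,12,20,24,28,40,44,20,28,32,40,48,36,2,28,32,40,48,4,8,12,24,28,40,44,36]
  (defsH 20 T4_n (ones 200) [5,1,2,3,4,5,1,2] (Nat.shiftLeft 1 0) 0)) = true := by decide +kernel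

theorem T4_idx : Idx.{u} iv (T4_R ++ []) ([1,2,3,4].map fun x => [x]) [1,2,3,4,5] 20 :=
  Reach.idx T4_n_ok (reach_runH T4_n_ok (tbk_eq tr5 (by norm_num) (by norm_num) (by norm_num) T4_n_ok) T4_n_rel (reach_defsH T4_n_ok _ _ _ _ _ _) _ _) T4_fin (by norm_num)

end Cfsg.Lib.Comp.M24x
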