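import Cfsg.Agent.Lib.Comp.M24x.Perm
import Cfsg.Agent.Lib.Comp.PermGrp
import Cfsg.Agent.Lib.Comp.Bridge2
import Cfsg.Agent.Lib.Comp.M24x.T0
import Cfsg.Agent.Lib.Comp.M24x.T1
import Cfsg.Agent.Lib.Comp.M24x.T2
import Cfsg.Agent.Lib.Comp.M24x.T3
import Cfsg.Agent.Lib.Comp.M24x.T4
import Cfsg.Agent.Lib.Comp.M24x.T5
import Cfsg.Agent.Lib.Comp.Out
import Cfsg.Agent.Lib.Comp.M24.Perm

set_option maxRecDepth 100000
set_option Elab.async false

namespace Cfsg.Lib.Comp.M24x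

universe u

theorem T5_ord : Ord.{u} iv T5_R [1,2,3,4] 48 :=
  (T5_idx.ord_base).of_cons (cons_of_subset (by decide +kernel))

theorem T4_ord : Ord.{u} iv T4_R [1,2,3,4,5] 960 :=
  (T4_idx.ord_step T5_ord).of_cons (cons_of_subset (by decide +kernel))

theorem T3_ord : Ord.{u} iv T3_R [1,2,3,4,5,6] 20160 :=
  (T3_idx.ord_step T4_ord).of_cons (cons_of_subset (by decide +kernel))

theorem T2_ord : Ord.{u} iv T2_R [1,2,3,4,5,6,7] 443520 :=
  (T2_idx.ord_step T3_ord).of_cons (cons_of_subset (by decide +kernel))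

theorem T1_ord : Ord.{u} iv T1_R [1,2,3,4,5,6,7,8] 10200960 :=
  (T1_idx.ord_step T2_ord).of_cons (cons_of_subset (by decide +kernel))

theorem T0_ord : Ord.{u} iv T0_R [1,2,3,4,5,6,7,8,9] 244823040 :=
  (T0_idx.ord_step T1_ord).of_cons (cons_of_subset (by decide +kernel))

theorem ord : Ord.{u} iv R L 244823040 := T0_ord.of_cons (cons_of_subset (by decide +kernel))

theorem card : Nat.card (cl (gp nets) L) = 244823040 := card_of_ord ord nets_iv nets_rel lb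

noncomputable def lpi : Net :=
 (Net.cons 12 (nat_lit 0x47e)
 (Net.cons 6 (nat_lit 0x3e026)
 (Net.cons 3 (nat_lit 0x186)
 (Net.cons 1 (nat_lit 0x208)
 (Net.cons 1 (nat_lit 0x12412)
 (Net.cons 1 (nat_lit 0x8008)
 (Net.cons 3 (nat_lit 0x31c4)
 (Net.cons 6 (nat_lit 0x3e008)
 (Net.cons 12 (nat_lit 0xafe)
 Net.nil)))))))))

theorem lpi_ok : lpi.ok 24 := ok_of_netOK (by decide +kernel)

theorem l_m1 : gp nets 1 ∈ (cl (gp M24.nets) M24.L).map (MulAut.conj lpi.perm).toMonoidHom :=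
  mem_conj_of_eqB (k := 5) (w := [81,78]) M24.nets_ok (by norm_num) lpi_ok (nets_ok 1)
    (fun _ h => cl_eq_of_slpB M24.nets_ok (by norm_num) M24.slp_ok ▸ mem_cl h) (by decide +kernel)

theorem l_m2 : gp nets 2 ∈ (cl (gp M24.nets) M24.L).map (MulAut.conj lpi.perm).toMonoidHom :=
  mem_conj_of_eqB (k := 5) (w := [79,80]) M24.nets_ok (by norm_num) lpi_ok (nets_ok 2)
    (fun _ h => cl_eq_of_slpB M24.nets_ok (by norm_num) M24.slp_ok ▸ mem_cl h) (by decide +kernel)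

theorem l_m3 : gp nets 3 ∈ (cl (gp M24.nets) M24.L).map (MulAut.conj lpi.perm).toMonoidHom :=
  mem_conj_of_eqB (k := 5) (w := [83,79,80]) M24.nets_ok (by norm_num) lpi_ok (nets_ok 3)
    (fun _ h => cl_eq_of_slpB M24.nets_ok (by norm_num) M24.slp_ok ▸ mem_cl h) (by decide +kernel)

theorem l_m4 : gp nets 4 ∈ (cl (gp M24.nets) M24.L).map (MulAut.conj lpi.perm).toMonoidHom :=
  mem_conj_of_eqB (k := 5) (w := [83,80,79]) M24.nets_ok (by norm_num) lpi_ok (nets_ok 4)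
    (fun _ h => cl_eq_of_slpB M24.nets_ok (by norm_num) M24.slp_ok ▸ mem_cl h) (by decide +kernel)

theorem l_m5 : gp nets 5 ∈ (cl (gp M24.nets) M24.L).map (MulAut.conj lpi.perm).toMonoidHom :=
  mem_conj_of_eqB (k := 5) (w := [83,80,82,76,78]) M24.nets_ok (by norm_num) lpi_ok (nets_ok 5)
    (fun _ h => cl_eq_of_slpB M24.nets_ok (by norm_num) M24.slp_ok ▸ mem_cl h) (by decide +kernel)

theorem l_m6 : gp nets 6 ∈ (cl (gp M24.nets) M24.L).map (MulAut.conj lpi.perm).toMonoidHom :=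
  mem_conj_of_eqB (k := 5) (w := [83,77,79,72]) M24.nets_ok (by norm_num) lpi_ok (nets_ok 6)
    (fun _ h => cl_eq_of_slpB M24.nets_ok (by norm_num) M24.slp_ok ▸ mem_cl h) (by decide +kernel)

theorem l_m7 : gp nets 7 ∈ (cl (gp M24.nets) M24.L).map (MulAut.conj lpi.perm).toMonoidHom :=
  mem_conj_of_eqB (k := 5) (w := [76,76,79,72,74,79,68,68]) M24.nets_ok (by norm_num) lpi_ok (nets_ok 7)
    (fun _ h => cl_eq_of_slpB M24.nets_ok (by norm_num) M24.slp_ok ▸ mem_cl h) (by decide +kernel)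

theorem l_m8 : gp nets 8 ∈ (cl (gp M24.nets) M24.L).map (MulAut.conj lpi.perm).toMonoidHom :=
  mem_conj_of_eqB (k := 5) (w := [83,81,76,74,82,70,73,67]) M24.nets_ok (by norm_num) lpi_ok (nets_ok 8)
    (fun _ h => cl_eq_of_slpB M24.nets_ok (by norm_num) M24.slp_ok ▸ mem_cl h) (by decide +kernel)

theorem l_m9 : gp nets 9 ∈ (cl (gp M24.nets) M24.L).map (MulAut.conj lpi.perm).toMonoidHom :=
  mem_conj_of_eqB (k := 5) (w := [77,78,74,72,68,75,66,1]) M24.nets_ok (by norm_num) lpi_ok (nets_ok 9)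
    (fun _ h => cl_eq_of_slpB M24.nets_ok (by norm_num) M24.slp_ok ▸ mem_cl h) (by decide +kernel)

theorem perm : Nonempty (Cfsg.M24 ≃* cl (gp nets) L) := by
  obtain ⟨e⟩ := M24.perm
  have := M24.nets_ok.finite M24.L
  obtain ⟨φ, h1, h2⟩ := relabel e lpi.perm (G' := cl (gp nets) L)
    (cl_le.2 (by unfold L; simp only [List.forall_mem_cons]; exact ⟨l_m1, l_m2, l_m3, l_m4, l_m5, l_m6, l_m7, l_m8, l_m9, by simp⟩)) (M24.card.trans_le lb)
  exact ⟨(MonoidHom.ofInjective h1).trans (MulEquiv.subgroupCongr h2)⟩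

end Cfsg.Lib.Comp.M24x
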