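import Cfsg.Agent.Lib.Comp.M24x.Base

set_option maxRecDepth 100000
set_option Elab.async false

namespace Cfsg.Lib.Comp.M24x

universe u

noncomputable def MuH0_1_R : List (List ℕ × ℕ) := [([3],1),
 ([4],1),
 ([1],2),
 ([3,4],1),
 ([1,3],2),
 ([1,4],2),
 ([1,4,2,3],1),
 ([9],1),
 ([1,9],2),
 ([3,9],2),
 ([4,9],2),
 ([1,4,9,3],1),
 ([1,2],0)]

noncomputable def MuH0_1_n_1 : Net :=
 (Net.cons 10 (nat_lit 0x68)
 (Net.cons 5 (nat_lit 0x1010)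
 (Net.cons 1 (nat_lit 0x1424)
 (Net.cons 1 (nat_lit 0x42942)
 (Net.cons 1 (nat_lit 0x214a0)
 (Net.cons 1 (nat_lit 0x12940)
 (Net.cons 1 (nat_lit 0x14a0)
 (Net.cons 5 (nat_lit 0x3402)
 (Net.cons 10 (nat_lit 0x112)
 Net.nil)))))))))

noncomputable def MuH0_1_n_3 : Net :=
 (Net.cons 10 (nat_lit 0x2a0)
 (Net.cons 5 (nat_lit 0x2812)
 (Net.cons 1 (nat_lit 0x28400)
 (Net.cons 1 (nat_lit 0x942)
 (Net.cons 1 (nat_lit 0x4a0)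
 (Net.cons 1 (nat_lit 0x140)
 (Net.cons 5 (nat_lit 0x681a)
 (Net.cons 10 (nat_lit 0x2a0)
 Net.nil))))))))

noncomputable def MuH0_1_n_4 : Net :=
 (Net.cons 10 (nat_lit 0x50)
 (Net.cons 5 (nat_lit 0x2002)
 (Net.cons 1 (nat_lit 0x20020)
 (Net.cons 1 (nat_lit 0x12908)
 (Net.cons 1 (nat_lit 0x21000)
 (Net.cons 1 (nat_lit 0x2800)
 (Net.cons 5 (nat_lit 0x341e)
 (Net.cons 10 (nat_lit 0x50)
 Net.nil))))))))

noncomputable def MuH0_1_n_9 : Net :=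
 (Net.cons 10 (nat_lit 0x90)
 (Net.cons 5 (nat_lit 0xc)
 (Net.cons 1 (nat_lit 0x29081)
 (Net.cons 1 (nat_lit 0x50148)
 (Net.cons 1 (nat_lit 0x20080)
 (Net.cons 1 (nat_lit 0x50140)
 (Net.cons 1 (nat_lit 0x8000)
 (Net.cons 5 (nat_lit 0x380c)
 (Net.cons 10 (nat_lit 0x90)
 Net.nil)))))))))

noncomputable def MuH0_1_n : List Net := [Net.nil,
 MuH0_1_n_1,
 Net.rev MuH0_1_n_1,
 MuH0_1_n_3,
 MuH0_1_n_4,
 Net.nil,
 Net.nil,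
 Net.nil,
 Net.nil,
 MuH0_1_n_9]

theorem MuH0_1_n_ok : NetsOK 20 MuH0_1_n := netsOK_of (by decide +kernel)

theorem MuH0_1_n_rel : Rels (gp MuH0_1_n) MuH0_1_R := rels_of_relsB (k := 5) MuH0_1_n_ok (by norm_num) (by decide +kernel)

theorem MuH0_1_fin : finB 20 MuH0_1_n [1,2,3,4,9] 20 (runH 20 MuH0_1_n (fun x p => ptInv (nth Net.nil MuH0_1_n x) p) iv MuH0_1_R [] ([1,2,3,4].map fun x => [x]) 0 []
  [1,5,9,13,0,4,12,28,36,40,44,48,8,16,20,24,32,36,44,48,4,16,20,24,28,32,36,44,8,12,16,20,24,28,36]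
  (defsH 20 MuH0_1_n (ones 200) [9,1,2,3,4,9,1,2,3] (Nat.shiftLeft 1 0) 0)) = true := by decide +kernel

theorem MuH0_1_idx : Idx.{u} iv (MuH0_1_R ++ []) ([1,2,3,4].map fun x => [x]) [1,2,3,4,9] 20 :=
  Reach.idx MuH0_1_n_ok (reach_runH MuH0_1_n_ok (fun x p _ => ptInv_gp MuH0_1_n_ok x p) MuH0_1_n_rel (reach_defsH MuH0_1_n_ok _ _ _ _ _ _) _ _) MuH0_1_fin (by norm_num)

end Cfsg.Lib.Comp.M24x
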