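import Cfsg.Agent.Lib.Comp.M24x.MuH0_0
import Cfsg.Agent.Lib.Comp.M24x.MuH0_1
import Cfsg.Agent.Lib.Comp.M24x.MuH0_2
import Cfsg.Agent.Lib.Comp.M24x.MuH0_3
import Cfsg.Agent.Lib.Comp.M24x.MuH0_4
import Cfsg.Agent.Lib.Comp.M24x.Mu0
import Cfsg.Agent.Lib.Comp.M24x.Main
import Cfsg.Agent.Lib.Comp.Cover

set_option maxRecDepth 100000
set_option Elab.async false

namespace Cfsg.Lib.Comp.M24x

universe u

theorem MuH0_4_ord : Ord.{u} iv MuH0_4_R [1,2] 3 :=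
  (MuH0_4_idx.ord_base).of_cons (cons_of_subset (by decide +kernel))

theorem MuH0_3_ord : Ord.{u} iv MuH0_3_R [1,2,3] 12 :=
  (MuH0_3_idx.ord_step MuH0_4_ord).of_cons (cons_of_subset (by decide +kernel))

theorem MuH0_2_ord : Ord.{u} iv MuH0_2_R [1,2,3,4] 48 :=
  (MuH0_2_idx.ord_step MuH0_3_ord).of_cons (cons_of_subset (by decide +kernel))

theorem MuH0_1_ord : Ord.{u} iv MuH0_1_R [1,2,3,4,9] 960 :=
  (MuH0_1_idx.ord_step MuH0_2_ord).of_cons (cons_of_subset (by decide +kernel))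

theorem MuH0_0_ord : Ord.{u} iv MuH0_0_R [1,2,3,4,7,9] 1920 :=
  (MuH0_0_idx.ord_step MuH0_1_ord).of_cons (cons_of_subset (by decide +kernel))

noncomputable def MuH0_lb_n_1 : Net :=
 (Net.cons 10 (nat_lit 0x224)
 (Net.cons 5 (nat_lit 0xc)
 (Net.cons 1 (nat_lit 0x80a0)
 (Net.cons 1 (nat_lit 0x4094a)
 (Net.cons 1 (nat_lit 0x200a4)
 (Net.cons 1 (nat_lit 0x10000)
 (Net.cons 5 (nat_lit 0x81a)
 (Net.cons 10 (nat_lit 0xfe)
 Net.nil))))))))

noncomputable def MuH0_lb_n_3 : Net :=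
 (Net.cons 10 (nat_lit 0x2b0)
 (Net.cons 5 (nat_lit 0x800)
 (Net.cons 1 (nat_lit 0x9424)
 (Net.cons 1 (nat_lit 0x10008)
 (Net.cons 1 (nat_lit 0x8004)
 (Net.cons 5 (nat_lit 0x4808)
 (Net.cons 10 (nat_lit 0x2b2)
 Net.nil)))))))

noncomputable def MuH0_lb_n_4 : Net :=
 (Net.cons 10 (nat_lit 0x100)
 (Net.cons 5 (nat_lit 0x2006)
 (Net.cons 1 (nat_lit 0x1024)
 (Net.cons 1 (nat_lit 0x2948)
 (Net.cons 1 (nat_lit 0x10a4)
 (Net.cons 1 (nat_lit 0x2940)
 (Net.cons 1 (nat_lit 0x20)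
 (Net.cons 5 (nat_lit 0x2406)
 (Net.cons 10 (nat_lit 0x148)
 Net.nil)))))))))

noncomputable def MuH0_lb_n_7 : Net :=
 (Net.cons 5 (nat_lit 0x4002)
 (Net.cons 1 (nat_lit 0x29020)
 (Net.cons 1 (nat_lit 0x5014a)
 (Net.cons 1 (nat_lit 0x20020)
 (Net.cons 1 (nat_lit 0x50000)
 (Net.cons 1 (nat_lit 0x8000)
 (Net.cons 5 (nat_lit 0x4002)
 Net.nil)))))))

noncomputable def MuH0_lb_n_9 : Net :=
 (Net.cons 5 (nat_lit 0x4818)
 (Net.cons 1 (nat_lit 0x290a1)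
 (Net.cons 1 (nat_lit 0x52948)
 (Net.cons 1 (nat_lit 0x290a0)
 (Net.cons 1 (nat_lit 0x2800)
 (Net.cons 5 (nat_lit 0x4818)
 Net.nil))))))

noncomputable def MuH0_lb_n_64 : Net :=
 (Net.cons 10 (nat_lit 0x2f0)
 (Net.cons 1 (nat_lit 0x84a4)
 (Net.cons 1 (nat_lit 0x52900)
 (Net.cons 1 (nat_lit 0x29480)
 (Net.cons 1 (nat_lit 0x52800)
 (Net.cons 1 (nat_lit 0x8400)
 (Net.cons 5 (nat_lit 0x4400)
 (Net.cons 10 (nat_lit 0x2f0)
 Net.nil))))))))

noncomputable def MuH0_lb_n : List Net := (apd [Net.nil,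
 MuH0_lb_n_1,
 Net.rev MuH0_lb_n_1,
 MuH0_lb_n_3,
 MuH0_lb_n_4,
 Net.nil,
 Net.nil,
 MuH0_lb_n_7,
 Net.nil,
 MuH0_lb_n_9,
 Net.nil,
 Net.nil,
 Net.nil,
 Net.nil,
 Net.nil,
 Net.nil,
 Net.nil,
 Net.nil,
 Net.nil,
 Net.nil,
 Net.nil,
 Net.nil,
 Net.nil,
 Net.nil,
 Net.nil,
 Net.nil,
 Net.nil,
 Net.nil,
 Net.nil,
 Net.nil,
 Net.nil,
 Net.nil,
 Net.nil,
 Net.nil,
 Net.nil,
 Net.nil,
 Net.nil,
 Net.nil,
 Net.nil,
 Net.nil]
 [Net.nil,
 Net.nil,
 Net.nil,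
 Net.nil,
 Net.nil,
 Net.nil,
 Net.nil,
 Net.nil,
 Net.nil,
 Net.nil,
 Net.nil,
 Net.nil,
 Net.nil,
 Net.nil,
 Net.nil,
 Net.nil,
 Net.nil,
 Net.nil,
 Net.nil,
 Net.nil,
 Net.nil,
 Net.nil,
 Net.nil,
 Net.nil,
 MuH0_lb_n_64])

theorem MuH0_lb_n_ok : NetsOK 20 MuH0_lb_n := netsOK_of (by decide +kernel)

theorem MuH0_lb : 1920 ≤ Nat.card (cl (gp nets) [1,2,3,4,7,9]) :=
  lb_of_itwB (k := 5) (n := 20) nets_ok MuH0_lb_n_ok (by norm_num) (by norm_num) (tbA_pt nets_ok) (tbA_pt MuH0_lb_n_ok) (φ := look2 (nat_lit 0x150001600017000140000e0000f00011000090000c000130000b0000d000050001000012000060000a000070000800000) 20 64) (by decide +kernel) (by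
    rw [← cl_eq_of_slpB (k := 5) (D := [(64,[4,7,1,3])]) MuH0_lb_n_ok (by norm_num) (by decide +kernel)]
    exact lb_of_chainB MuH0_lb_n_ok (C := [([1,2,3,4,7,64],[9,1,3,4,1,3,9],0,0,20),
 ([7,64],[1,3,4,1,3],1,1,16),
 ([],[7,64,7],2,2,6)]) (by decide +kernel))

theorem Mu_mb : MB (cl (gp nets) L) 53130 1 :=
  mb_one (w := 40) (n := 40) (La := L) (ix := nth 0 [0,0,0,0,1,7,12,17,22,30]) (by norm_num) (by norm_num) (nets_iv.sval _) (nets_rel.sval fun r hr x hx => mem_cl (sub_of_allR (by decide +kernel) r hr x hx)) (by decide +kernel)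
    (TStep.trans (TStep.trans (TStep.trans (TStep.trans (TStep.trans (TStep.trans (TStep.trans (TStep.trans (TStep.trans (TStep.trans (TStep.trans (TStep.trans (TStep.trans (TStep.trans (TStep.repar (k' := 32) (by norm_num) (by norm_num) (by decide +kernel) (by decide +kernel) Mu1_b)
    (TStep.enum0 (by norm_num) (by norm_num) Mu2_0 (Gs := Mu2G) (by decide +kernel)))
    (TStep.repar (k' := 31) (by norm_num) (by norm_num) (by decide +kernel) (by decide +kernel) Mu3_b))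
    (TStep.enum0 (by norm_num) (by norm_num) Mu4_0 (Gs := Mu4G) (by decide +kernel)))
    (TStep.repar (k' := 26) (by norm_num) (by norm_num) (by decide +kernel) (by decide +kernel) Mu5_b))
    (TStep.enum0 (by norm_num) (by norm_num) Mu6_0 (Gs := Mu6G) (by decide +kernel)))
    (TStep.repar (k' := 22) (by norm_num) (by norm_num) (by decide +kernel) (by decide +kernel) Mu7_b))
    (TStep.enum0 (by norm_num) (by norm_num) Mu8_0 (Gs := Mu8G) (by decide +kernel)))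
    (TStep.repar (k' := 17) (by norm_num) (by norm_num) (by decide +kernel) (by decide +kernel) Mu9_b))
    (TStep.enum0 (by norm_num) (by norm_num) Mu10_0 (Gs := Mu10G) (by decide +kernel)))
    (TStep.repar (k' := 9) (by norm_num) (by norm_num) (by decide +kernel) (by decide +kernel) Mu11_b))
    (TStep.enum0 (by norm_num) (by norm_num) Mu12_0 (Gs := Mu12G) (by decide +kernel)))
    (TStep.repar (k' := 2) (by norm_num) (by norm_num) (by decide +kernel) (by decide +kernel) Mu13_b))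
    (TStep.enum (by norm_num) (by norm_num) Mu14_0 (I := [0,1,2,3,4,5,6,17,18,19,30,33,34,35,36,38,39]) (by decide +kernel) (by decide +kernel) MuH0_0_ord (c := 1) (lb_sval (fun _ hx => mem_cl (sub_of_subB (by decide +kernel) _ hx)) MuH0_lb (by norm_num)) (Gs := Mu14G) (by decide +kernel)))
    (TStep.repar (k' := 0) (by norm_num) (by norm_num) (by decide +kernel) (by decide +kernel) Mu15_b))
    (L := [1,2,3,4,5,6,7,8,9]) (I := [0,1,2,3,4,5,6,7,8,9,10,11,12,13,14,15,16,17,18,19,20,21,22,23,24,25,26,27,28,29,30,31,32,33,34,35,36,37,38,39]) (by decide +kernel) (by decide +kernel) ord card.ge (cl_sval_top _ _)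

end Cfsg.Lib.Comp.M24x
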