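import Cfsg.Agent.Lib.Comp.M24x.Base

set_option maxRecDepth 100000
set_option Elab.async false

namespace Cfsg.Lib.Comp.M24x

universe u

noncomputable def MuH0_0_R : List (List ℕ × ℕ) := [([3],1),
 ([4],1),
 ([1],2),
 ([3,4],1),
 ([1,3],2),
 ([1,4],2),
 ([1,4,2,3],1),
 ([7],1),
 ([1,7],1),
 ([3,7],1),
 ([9],1),
 ([7,9],1),
 ([1,9],2),
 ([3,9],2),
 ([4,9],2),
 ([1,4,9,3],1),
 ([1,2],0)]

noncomputable def MuH0_0_n_7 : Net :=
 (Net.cons 1 (nat_lit 0x1)
 Net.nil)

noncomputable def MuH0_0_n : List Net := [Net.nil,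
 Net.nil,
 Net.nil,
 Net.nil,
 Net.nil,
 Net.nil,
 Net.nil,
 MuH0_0_n_7]

theorem MuH0_0_n_ok : NetsOK 2 MuH0_0_n := netsOK_of (by decide +kernel)

theorem MuH0_0_n_rel : Rels (gp MuH0_0_n) MuH0_0_R := rels_of_relsB (k := 1) MuH0_0_n_ok (by norm_num) (by decide +kernel)

noncomputable def MuH0_0_b0h : ℕ := (nat_lit 0x40000010000010000000002000001000000000200000400000000050000020009000002000005000300000500000500040000040000050001000002000005000200000200000400030000020000020004000001000002)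

noncomputable def MuH0_0_b0c : List ℕ := [(nat_lit 0x100002500070200000100001f00001300002300060400000b00001f00000f00820300000700001900001700001b00000700001900600600001700000f000003000012000006000004000001007c0700000f00000300000200000600000400000100000d00280700000f000003000004000001000009002005000000000000000003000006000001000e0300000000000b)]

theorem MuH0_0_fin : finB 2 MuH0_0_n [1,2,3,4,7,9] 2 (runH 2 MuH0_0_n (tbk 1 4 prs1 MuH0_0_n 2) iv MuH0_0_R [] ([1,2,3,4,9].map fun x => [x]) 0 [(fun t => look MuH0_0_b0h 64 t, MuH0_0_b0c)]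
  [1,5,9,13,17,28,32,36,44,64,2]
  (defsH 2 MuH0_0_n (ones 20) [7] (Nat.shiftLeft 1 0) 0)) = true := by decide +kernel

theorem MuH0_0_idx : Idx.{u} iv (MuH0_0_R ++ []) ([1,2,3,4,9].map fun x => [x]) [1,2,3,4,7,9] 2 :=
  Reach.idx MuH0_0_n_ok (reach_runH MuH0_0_n_ok (tbk_eq tr1 (by norm_num) (by norm_num) (by norm_num) MuH0_0_n_ok) MuH0_0_n_rel (reach_defsH MuH0_0_n_ok _ _ _ _ _ _) _ _) MuH0_0_fin (by norm_num)

end Cfsg.Lib.Comp.M24x
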