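import Cfsg.Agent.Lib.Comp.M24x.Base

set_option maxRecDepth 100000
set_option Elab.async false

namespace Cfsg.Lib.Comp.M24x

universe u

noncomputable def nets_1 : Net :=
 (Net.cons 12 (nat_lit 0xfc0)
 (Net.cons 6 (nat_lit 0x2a038)
 (Net.cons 3 (nat_lit 0x2000)
 (Net.cons 1 (nat_lit 0x1048)
 (Net.cons 1 (nat_lit 0x480090)
 (Net.cons 1 (nat_lit 0x40)
 (Net.cons 3 (nat_lit 0x144100)
 (Net.cons 6 (nat_lit 0x6038)
 (Net.cons 12 (nat_lit 0xfc0)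
 Net.nil)))))))))

noncomputable def nets_3 : Net :=
 (Net.cons 12 (nat_lit 0xfc0)
 (Net.cons 6 (nat_lit 0x1c020)
 (Net.cons 3 (nat_lit 0x180)
 (Net.cons 1 (nat_lit 0x49040)
 (Net.cons 1 (nat_lit 0x492480)
 (Net.cons 1 (nat_lit 0x209040)
 (Net.cons 3 (nat_lit 0x1c2180)
 (Net.cons 6 (nat_lit 0x1c020)
 (Net.cons 12 (nat_lit 0xfc0)
 Net.nil)))))))))

noncomputable def nets_4 : Net :=
 (Net.cons 12 (nat_lit 0xe00)
 (Net.cons 6 (nat_lit 0x12020)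
 (Net.cons 3 (nat_lit 0x180)
 (Net.cons 1 (nat_lit 0x40040)
 (Net.cons 1 (nat_lit 0x492480)
 (Net.cons 1 (nat_lit 0x200040)
 (Net.cons 3 (nat_lit 0x1c1180)
 (Net.cons 6 (nat_lit 0x12020)
 (Net.cons 12 (nat_lit 0xe00)
 Net.nil)))))))))

noncomputable def nets_5 : Net :=
 (Net.cons 12 (nat_lit 0x430)
 (Net.cons 6 (nat_lit 0x14022)
 (Net.cons 3 (nat_lit 0x2080)
 (Net.cons 1 (nat_lit 0x200240)
 (Net.cons 1 (nat_lit 0x402400)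
 (Net.cons 1 (nat_lit 0x1200)
 (Net.cons 3 (nat_lit 0x147082)
 (Net.cons 6 (nat_lit 0x29022)
 (Net.cons 12 (nat_lit 0x430)
 Net.nil)))))))))

noncomputable def nets_6 : Net :=
 (Net.cons 12 (nat_lit 0xe00)
 (Net.cons 6 (nat_lit 0x8020)
 (Net.cons 3 (nat_lit 0x100100)
 (Net.cons 1 (nat_lit 0x48248)
 (Net.cons 1 (nat_lit 0x90080)
 (Net.cons 1 (nat_lit 0x48040)
 (Net.cons 3 (nat_lit 0x182100)
 (Net.cons 6 (nat_lit 0x1e020)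
 (Net.cons 12 (nat_lit 0xe00)
 Net.nil)))))))))

noncomputable def nets_7 : Net :=
 (Net.cons 12 (nat_lit 0xec0)
 (Net.cons 6 (nat_lit 0xe030)
 (Net.cons 3 (nat_lit 0x106)
 (Net.cons 1 (nat_lit 0x208048)
 (Net.cons 1 (nat_lit 0x490092)
 (Net.cons 1 (nat_lit 0x48048)
 (Net.cons 3 (nat_lit 0x1c2106)
 (Net.cons 6 (nat_lit 0xe030)
 (Net.cons 12 (nat_lit 0xec0)
 Net.nil)))))))))

noncomputable def nets_8 : Net :=
 (Net.cons 12 (nat_lit 0x2e0)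
 (Net.cons 6 (nat_lit 0x20012)
 (Net.cons 3 (nat_lit 0x4100)
 (Net.cons 1 (nat_lit 0x40)
 (Net.cons 1 (nat_lit 0x402090)
 (Net.cons 1 (nat_lit 0x40)
 (Net.cons 3 (nat_lit 0xc6180)
 (Net.cons 6 (nat_lit 0x12012)
 (Net.cons 12 (nat_lit 0x3e0)
 Net.nil)))))))))

noncomputable def nets_9 : Net :=
 (Net.cons 12 (nat_lit 0x868)
 (Net.cons 6 (nat_lit 0x30004)
 (Net.cons 3 (nat_lit 0x80)
 (Net.cons 1 (nat_lit 0x240249)
 (Net.cons 1 (nat_lit 0x492412)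
 (Net.cons 1 (nat_lit 0x240209)
 (Net.cons 3 (nat_lit 0x146080)
 (Net.cons 6 (nat_lit 0x3002c)
 (Net.cons 12 (nat_lit 0x868)
 Net.nil)))))))))

noncomputable def nets_64 : Net :=
 (Net.cons 1 (nat_lit 0x9200)
 (Net.cons 1 (nat_lit 0x492480)
 (Net.cons 1 (nat_lit 0x240040)
 Net.nil)))

noncomputable def nets : List Net := (apd [Net.nil,
 nets_1,
 Net.rev nets_1,
 nets_3,
 nets_4,
 nets_5,
 nets_6,
 nets_7,
 nets_8,
 nets_9,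
 Net.nil,
 Net.nil,
 Net.nil,
 Net.nil,
 Net.nil,
 Net.nil,
 Net.nil,
 Net.nil,
 Net.nil,
 Net.nil,
 Net.nil,
 Net.nil,
 Net.nil,
 Net.nil,
 Net.nil,
 Net.nil,
 Net.nil,
 Net.nil,
 Net.nil,
 Net.nil,
 Net.nil,
 Net.nil,
 Net.nil,
 Net.nil,
 Net.nil,
 Net.nil,
 Net.nil,
 Net.nil,
 Net.nil,
 Net.nil]
 [Net.nil,
 Net.nil,
 Net.nil,
 Net.nil,
 Net.nil,
 Net.nil,
 Net.nil,
 Net.nil,
 Net.nil,
 Net.nil,
 Net.nil,
 Net.nil,
 Net.nil,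
 Net.nil,
 Net.nil,
 Net.nil,
 Net.nil,
 Net.nil,
 Net.nil,
 Net.nil,
 Net.nil,
 Net.nil,
 Net.nil,
 Net.nil,
 nets_64,
 Net.rev nets_64])

theorem nets_ok : NetsOK 24 nets := netsOK_of (by decide +kernel)

theorem nets_rel : Rels (gp nets) R := rels_of_relsB (k := 5) nets_ok (by norm_num) (by decide +kernel)

theorem nets_iv : IvOK (gp nets) iv := ivOK_of_ivB (k := 5) nets_ok (by norm_num) (by decide +kernel)

noncomputable def slp : List (ℕ × List ℕ) := [(64,[2,3]),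
 (65,[3,1])]

theorem slp_ok : slpB 24 5 nets slp L = true := by decide +kernel

theorem mem_all {x : ℕ} (h : x ∈ L ++ slp.map (·.1)) : gp nets x ∈ cl (gp nets) L :=
  cl_eq_of_slpB nets_ok (by norm_num) slp_ok ▸ mem_cl h

theorem lb : 244823040 ≤ Nat.card (cl (gp nets) L) := by
  rw [← cl_eq_of_slpB nets_ok (by norm_num) slp_ok]
  exact lb_of_chainB nets_ok (C := [([1,2,3,4,5,6,7,8,64,65],[9,1,3,4,1,5,6,7,8],0,0,24),
 ([1,2,3,4,5,6,7,64,65],[8,5,1,3,4,1,6,5,7],1,1,23),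
 ([1,2,3,4,5,6,64,65],[7,6,5,1,3,4,1,1,5],2,2,22),
 ([1,2,3,4,5,64,65],[6,5,1,3,4,1,1,5],3,3,21),
 ([1,2,3,4,64,65],[5,1,3,4,1,1,5],4,4,20),
 ([64,65],[1,4,1,64,3],5,5,16),
 ([],[64,64],6,6,3)]) (by decide +kernel)

end Cfsg.Lib.Comp.M24x
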